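import Cfsg.Agent.H241.NHThree
import Cfsg.Agent.H296.OneElt
import Cfsg.Agent.H979.OddB
import Cfsg.Agent.H149.Sp.Baby
import Cfsg.Agent.H568.OddPair
import Cfsg.Agent.H713.Spor.B
import Cfsg.Agent.LThreeB.FromM
import Cfsg.Agent.H997.OutHe2
import Cfsg.Agent.FastGrp
import Cfsg.Agent.Prune
set_option linter.all false

section
prune_inst 0x7f00000000000000000000000000000000000000000000000000000000000000000000000000000000000000000000000000000000000000000000000000000000000000000000000000000000000000003fffffffffffffffffffffffffffbeffbdffffffff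

-- part: H630/NHBabyA
section
set_option linter.all false
open scoped Cfsg.Agent.FastGrp

/-!
# Row of the nilpotent Hall cluster: the Baby Monster, general tools (helper630)

* `frk_of_dvd` : a prime `p` dividing `|N(⟨x⟩) : C(x)|` gives a Frobenius relation `Frk p q`;
* `frk_of_sylow` : the same from the order of the centralizer of an element generating a Sylow subgroup;
* `nc_of_frk` : the Frattini argument gives `NC`.
-/

set_option autoImplicit false
open Subgroup

namespace Cfsg.Agent.H630.Baby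

open Cfsg.Agent.H630.NH Cfsg.Agent.H241.NH

universe u v

section

variable {X : Type u} [Group X] [Finite X] {p q : ℕ}

/-- `C(x)` is normal in `N(⟨x⟩)` -/
theorem cent_normal (x : X) :
    ((centralizer ({x} : Set X)).subgroupOf (normalizer ((zpowers x : Subgroup X) : Set X))).Normal := by
  constructor
  rintro ⟨c, hc⟩ hcC ⟨n, hn⟩
  rw [mem_subgroupOf] at hcC ⊢
  rw [mem_centralizer_singleton_iff] at hcC ⊢
  show n * c * n⁻¹ * x = x * (n * c * n⁻¹)
  have hn' : n⁻¹ ∈ normalizer ((zpowers x : Subgroup X) : Set X) := inv_mem hn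
  have h2 : n⁻¹ * x * n⁻¹⁻¹ ∈ zpowers x := ((mem_normalizer_iff.1 hn') x).1 (mem_zpowers x)
  obtain ⟨i, hi⟩ := h2
  have h3 : Commute c (x ^ i) := (show Commute c x from hcC).zpow_right i
  have h4 : x = n * x ^ i * n⁻¹ := by
    have : x ^ i = n⁻¹ * x * n⁻¹⁻¹ := hi
    rw [this]; group
  rw [h4]
  calc n * c * n⁻¹ * (n * x ^ i * n⁻¹) = n * (c * x ^ i) * n⁻¹ := by group
    _ = n * (x ^ i * c) * n⁻¹ := by rw [h3.eq]
    _ = n * x ^ i * n⁻¹ * (n * c * n⁻¹) := by group

/-- **A prime dividing `|N(⟨x⟩) : C(x)|`.** -/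
theorem frk_of_dvd (hp : p.Prime) {x : X} (hx : orderOf x = q)
    (hd : p ∣ (centralizer ({x} : Set X)).relIndex (normalizer ((zpowers x : Subgroup X) : Set X))) : Frk p q X := by
  have hF : Fact p.Prime := ⟨hp⟩
  set N := normalizer ((zpowers x : Subgroup X) : Set X) with hN
  set C := centralizer ({x} : Set X) with hC
  have hCn : (C.subgroupOf N).Normal := cent_normal x
  have h1 : p ∣ Nat.card (N ⧸ C.subgroupOf N) := hd
  obtain ⟨g, hg⟩ := exists_prime_orderOf_dvd_card' p h1
  obtain ⟨n, rfl⟩ := QuotientGroup.mk'_surjective (C.subgroupOf N) g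
  obtain ⟨j, hj, hj'⟩ := exists_ppart.{u, u} hp n
  have h2 := hj' _ (QuotientGroup.mk' (C.subgroupOf N)) 1 (by rw [pow_one, ← hg, pow_orderOf_eq_one])
  set n' := n ^ j with hn'
  have h3 : (n' : N) ∉ C.subgroupOf N := by
    intro h
    have h4 : QuotientGroup.mk' (C.subgroupOf N) n' = 1 := (QuotientGroup.eq_one_iff _).2 h
    rw [h2] at h4
    rw [h4, orderOf_one] at hg
    exact hp.one_lt.ne hg
  refine ⟨n', x, ?_, hx, ?_, ?_⟩
  · obtain ⟨k, hk⟩ := hj
    exact ⟨k, by rw [Subgroup.orderOf_coe, hk]⟩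
  · have h4 : (n' : X) * x * (n' : X)⁻¹ ∈ zpowers x := ((mem_normalizer_iff.1 n'.2) x).1 (mem_zpowers x)
    obtain ⟨k, hk⟩ := (mem_powers_iff_mem_zpowers).2 h4
    exact ⟨k, hk.symm⟩
  · intro h
    exact h3 (mem_subgroupOf.2 (mem_centralizer_singleton_iff.2 h))

theorem cent_le_norm (x : X) : centralizer ({x} : Set X) ≤ normalizer ((zpowers x : Subgroup X) : Set X) := by
  intro g hg
  rw [mem_centralizer_singleton_iff] at hg
  rw [mem_normalizer_iff]
  intro b
  have key : ∀ i : ℤ, g * x ^ i * g⁻¹ = x ^ i := fun i => by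
    have h2 : Commute g (x ^ i) := (show Commute g x from hg).zpow_right i
    rw [h2.eq, mul_inv_cancel_right]
  constructor
  · rintro ⟨i, rfl⟩
    exact ⟨i, (key i).symm⟩
  · rintro ⟨i, hi⟩
    refine ⟨i, ?_⟩
    have h3 : g * x ^ i * g⁻¹ = g * b * g⁻¹ := (key i).trans hi
    exact mul_left_cancel (mul_right_cancel h3)

/-- from the orders of `C(R)` and `N(R)`, `|R| = q` -/
theorem frk_of_cards (hp : p.Prime) (hq : q.Prime) {x : X} (hx : orderOf x = q) {c n : ℕ}
    (hc : Nat.card (centralizer ((zpowers x : Subgroup X) : Set X)) = c)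
    (hn : Nat.card (normalizer ((zpowers x : Subgroup X) : Set X)) = n) (hd : p * c ∣ n) : Frk p q X := by
  have h0 : centralizer ((zpowers x : Subgroup X) : Set X) = centralizer ({x} : Set X) := by
    apply le_antisymm
    · exact centralizer_le (Set.singleton_subset_iff.2 (mem_zpowers x))
    · intro g hg
      rw [mem_centralizer_singleton_iff] at hg
      rw [mem_centralizer_iff]
      rintro _ ⟨i, rfl⟩
      exact ((show Commute g x from hg).zpow_right i).eq.symm
  rw [h0] at hc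
  refine frk_of_dvd hp hx ?_
  have h1 : Nat.card (centralizer ({x} : Set X)) * (centralizer ({x} : Set X)).relIndex
      (normalizer ((zpowers x : Subgroup X) : Set X)) = n := by
    rw [← hn, ← Nat.card_congr (subgroupOfEquivOfLe (cent_le_norm x)).toEquiv, relIndex, card_mul_index]
  rw [hc] at h1
  have hc0 : 0 < c := by rw [← hc]; exact Nat.card_pos
  rw [← h1, mul_comm p c] at hd
  exact Nat.dvd_of_mul_dvd_mul_left hc0 hd

/-- **`|N(⟨x⟩) : C(x)|`**, from the order of `C(x)`, `x` of prime order `q` with `q² ∤ |X|`. -/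
theorem relIndex_eq (hq : q.Prime) (hq2 : ¬ q ^ 2 ∣ Nat.card X) {x : X} (hx : orderOf x = q) {c : ℕ}
    (hc : Nat.card (centralizer ({x} : Set X)) = c) :
    (Nat.card X / c) % q = (centralizer ({x} : Set X)).relIndex (normalizer ((zpowers x : Subgroup X) : Set X)) := by
  have hFq : Fact q.Prime := ⟨hq⟩
  set Z : Subgroup X := zpowers x with hZ
  have hZc : Nat.card Z = q := by rw [hZ, Nat.card_zpowers, hx]
  have hZp : IsPGroup q Z := IsPGroup.of_card (n := 1) (by rw [hZc, pow_one])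
  obtain ⟨Q, hQ⟩ := hZp.exists_le_sylow
  have hQZ : (Q : Subgroup X) = Z := by
    symm
    refine Subgroup.eq_of_le_of_card_ge hQ ?_
    obtain ⟨k, hk⟩ := IsPGroup.iff_card.1 Q.2
    rw [hk, hZc]
    have h4 : k < 2 := by
      by_contra hk2
      refine hq2 ((Nat.pow_dvd_pow q (not_lt.1 hk2)).trans ?_)
      rw [← hk]; exact card_subgroup_dvd_card _
    calc q ^ k ≤ q ^ 1 := Nat.pow_le_pow_right hq.pos (by omega)
      _ = q := pow_one q
  set N := normalizer ((Z : Subgroup X) : Set X) with hN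
  have h1 : N.index ≡ 1 [MOD q] := by
    have h2 := card_sylow_modEq_one q X
    have h3 : normalizer (((Q : Subgroup X) : Set X)) = N := by rw [hQZ]
    rw [Sylow.card_eq_index_normalizer Q] at h2
    rw [← h3]
    exact h2
  set C := centralizer ({x} : Set X) with hC
  have hCN : C ≤ N := cent_le_norm x
  have h2 : C.index = C.relIndex N * N.index := (relIndex_mul_index hCN).symm
  have h3 : Nat.card X / c = C.index := by
    have h4 := C.card_mul_index
    rw [hc] at h4
    rw [← h4]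
    exact Nat.mul_div_cancel_left _ (by rw [← hc]; exact Nat.card_pos)
  -- `|N : C| < q`
  have h4 : C.relIndex N ∣ q - 1 := by
    let φ : N →* MulAut Z := Subgroup.normalizerMonoidHom Z
    have h5 : φ.ker = C.subgroupOf N := by
      ext n
      rw [MonoidHom.mem_ker, mem_subgroupOf, hC, mem_centralizer_singleton_iff]
      constructor
      · intro h
        have h6 := congrArg (fun f : MulAut Z => ((f ⟨x, mem_zpowers x⟩ : Z) : X)) h
        have h7 : (n : X) * x * (n : X)⁻¹ = x := h6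
        rw [mul_inv_eq_iff_eq_mul] at h7
        exact h7
      · intro h
        apply MulEquiv.ext
        rintro ⟨z, i, rfl⟩
        apply Subtype.ext
        show (n : X) * x ^ i * (n : X)⁻¹ = x ^ i
        rw [((show Commute (n : X) x from h).zpow_right i).eq, mul_inv_cancel_right]
    have h6 : C.relIndex N = Nat.card φ.range := by
      rw [relIndex, ← h5, index_ker]
    have h7 : Nat.card (MulAut Z) = q - 1 := by
      have hcyc : IsCyclic Z := isCyclic_of_prime_card hZc
      rw [IsCyclic.card_mulAut, hZc, Nat.totient_prime hq]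
    rw [h6, ← h7]
    exact card_subgroup_dvd_card _
  have h5 : C.relIndex N < q := by
    have := Nat.le_of_dvd (by have := hq.two_le; omega) h4
    have := hq.two_le
    omega
  rw [h3, h2]
  have h7 : C.relIndex N * N.index ≡ C.relIndex N * 1 [MOD q] := Nat.ModEq.mul_left _ h1
  rw [mul_one] at h7
  have h8 : (C.relIndex N * N.index) % q = C.relIndex N % q := h7
  rw [h8, Nat.mod_eq_of_lt h5]

theorem frk_of_sylow (hp : p.Prime) (hq : q.Prime) (hq2 : ¬ q ^ 2 ∣ Nat.card X) {x : X} (hx : orderOf x = q) {c : ℕ}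
    (hc : Nat.card (centralizer ({x} : Set X)) = c) (h : p ∣ (Nat.card X / c) % q) : Frk p q X := by
  refine frk_of_dvd hp hx ?_
  rwa [← relIndex_eq hq hq2 hx hc]

end

/-- **Frattini.** -/
theorem nc_of_frk {X : Type u} [Group X] [Finite X] {p q r : ℕ} (hp : p.Prime) (hq : q.Prime) (hr : r.Prime)
    (hpr : p ≠ r) (hqr : q ≠ r) (hf : Frk p q X) (hdiv : ¬ p ∣ r - 1) (hr2 : ¬ r ^ 2 ∣ Nat.card X) (hd : r ∣ Nat.card X)
    (hno : ∀ b w : X, orderOf b = p → orderOf w = r → b * w ≠ w * b) : NC q r X := by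
  obtain ⟨u, y, hu, hy, ⟨m, hm⟩, hne⟩ := hf
  refine nc_of_elem hr hqr hd hy fun w hw => ?_
  have := no_comm_of_frattini (a := 1) hp hr hpr hu hm hne (fun i h1 h2 => by
    obtain rfl : i = 1 := by omega
    rwa [pow_one]) hr2 hno w hw
  exact fun h => this h.symm

end Cfsg.Agent.H630.Baby
end

-- part: H630/NHBabyC
section
set_option linter.all false
open scoped Cfsg.Agent.FastGrp

/-!
# Row of the nilpotent Hall cluster: the Baby Monster, facts from the Monster (helper630)

* `exists_lift_card` : lifting to the Monster;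
* `five_nineteen` : an element of order 5 commuting with an involution commutes with no element of order 19;
* `strong_five` : elements of orders 5 and 17, 19, 23 do not commute;
* `nc_five`, `nc_three` : the pairs `(5, q)`, `(3, q)`.
-/

set_option autoImplicit false
set_option maxRecDepth 100000

namespace Cfsg.Agent.H630.Baby

open Cfsg Cfsg.Agent.MonsterX Cfsg.Agent.MonsterX.InstData Cfsg.Agent.MonsterX.MainPack Cfsg.Agent.MonsterU
open Cfsg.Agent.MonsterP Cfsg.Agent.MonsterN Cfsg.Agent.LThree Cfsg.Agent.LThreeMB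
open Cfsg.Agent.MonsterX.MainBasic Cfsg.Agent.MonsterX.MainSimple Cfsg.Agent.MonsterX.Model
open Cfsg.Agent.LThreeB (XT mem_XT centXT centXT' conjXT)
open Subgroup (centralizer mem_centralizer_singleton_iff center card_dvd_of_le)
open Cfsg.Spor (Co1)
open Cfsg.Agent.H979.BAdj Cfsg.Agent.H979.CovLift Cfsg.Agent.H979.OddB
open Cfsg.Agent.H630.NH Cfsg.Agent.H241.NH

universe u v

/-- the model of the Monster -/
abbrev Mon : Type := ↥InstData.M.G

section

variable {L : Type u} [Group L] [Finite L]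

/-- **Lifts to the Monster.** -/
theorem exists_lift_card (h : Spor.IsoB L) {r : ℕ} (hr : r.Prime) (hr2 : r ≠ 2) {y : L} (hy : orderOf y = r) :
    ∃ t x : Mon, LThreeB.Row.TA t ∧ orderOf x = r ∧ x * t = t * x ∧
      Nat.card ↥(XT x t) = Nat.card ↥(centralizer ({y} : Set L)) * 2 := by
  have hfin : Finite Mon := MThirteen.Row.finite
  obtain ⟨t, ht, h2, ⟨e⟩⟩ := exists_cover h
  obtain ⟨a, ha, ha'⟩ := exists_lift h2 hr hr2 (x := e.symm y) (by rw [MulEquiv.orderOf_eq, hy])
  refine ⟨t, a, ht, by rw [Subgroup.orderOf_coe, ha], mem_centralizer_singleton_iff.1 a.2, ?_⟩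
  have h3 := card_cent h2 e hr hr2 ha
  rw [ha', e.apply_symm_apply] at h3
  rw [← h3]
  exact Nat.card_congr (centXT a).toEquiv

/-- the order of the centralizer in `B` -/
theorem card_dvd_XT {t x : Mon} {r : ℕ} {y : L} (h : Nat.card ↥(XT x t) = Nat.card ↥(centralizer ({y} : Set L)) * 2)
    {n : ℕ} (hn : Nat.card ↥(XT x t) ∣ n) : Nat.card ↥(centralizer ({y} : Set L)) ∣ n :=
  (Dvd.intro _ h.symm).trans hn

/-- **An element of order 5 with a lift of type `HN`.** -/
theorem exists_five (h : Spor.IsoB L) : ∃ y : L, orderOf y = 5 ∧ ∃ c : ℕ, (c = 177408000 ∨ c = 3686400) ∧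
    Nat.card ↥(centralizer ({y} : Set L)) ∣ 5 * c := by
  have hfin : Finite Mon := MThirteen.Row.finite
  have h2f : Fact (Nat.Prime 2) := ⟨Nat.prime_two⟩
  have h5f : Fact (Nat.Prime 5) := ⟨Nat.prime_five⟩
  obtain ⟨f⟩ := h
  obtain ⟨x, s, hs, hx, hHN, hxt⟩ := H573.Spor.Monster.exists_pair
  obtain ⟨⟨h2, -, ⟨e⟩⟩, -⟩ := ModelB.fieldsKS LitFin.all KDone.lnk KDone.lft (NodesGrp.prel LitFin.H)
    (NodesNe.ne LitFin.H) LitFin.conj_ten Cfsg.Agent.S1704.result hs
  have ht : orderOf (KDone.K.ι s) = 2 := by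
    refine orderOf_eq_prime ?_ ?_
    · rw [← map_pow, pow_two, KDone.lft.sh_sq s hs, map_one]
    · intro h1
      have h3 : s = 1 := InvTwo.ι_inj KDone.lft (h1.trans (map_one _).symm)
      have h4 := (TwoCls.mem_Sh_iff KDone.lft s).1 hs
      rw [h3, TwoCls.clP_one] at h4
      exact CloseLat.ne_zero_of_two h4 rfl
  generalize KDone.K.ι s = t at *
  obtain ⟨x', rfl⟩ : ∃ x' : ↥(centralizer ({t} : Set Mon)), (x' : Mon) = x :=
    ⟨⟨x, mem_centralizer_singleton_iff.2 hxt⟩, rfl⟩
  have hxM := hx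
  rw [Subgroup.orderOf_coe] at hx
  have hcop : (Nat.card ↥(center ↥(centralizer ({t} : Set Mon)))).Coprime 5 := by rw [h2]; norm_num
  let e' := e.trans f.symm
  refine ⟨e' (QuotientGroup.mk x'), ?_, ?_⟩
  · rw [MulEquiv.orderOf_eq]
    exact Red.orderOf_mk Nat.prime_five _ hcop hx
  · obtain ⟨τ, hτ, hd⟩ := card_XT_dvd Nat.prime_five (by norm_num) hxM ht hxt
    obtain ⟨eH⟩ := hHN
    rw [LThreeB.card_centralizer_congr eH] at hd
    have h3 := card_cent h2 e' Nat.prime_five (by norm_num) hx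
    rw [← Nat.card_congr (centXT x').toEquiv] at h3
    have h4 : Nat.card ↥(centralizer ({e' (QuotientGroup.mk x')} : Set L)) ∣
        5 * Nat.card ↥(centralizer ({eH τ} : Set Spor.HN)) := card_dvd_XT (r := 5) h3 hd
    rcases Cfsg.Agent.SigZeroHN.card_centralizer_cases (u := eH τ)
      (by rw [MulEquiv.orderOf_eq]; exact hτ) with ⟨-, h5⟩ | ⟨-, h5⟩
    · exact ⟨_, Or.inl rfl, by rwa [h5] at h4⟩
    · exact ⟨_, Or.inr rfl, by rwa [h5] at h4⟩

/-- `y` of order 5 commuting with a conjugate of `z` and with an involution `t`: `19` does not divide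
`|C(y) ∩ C(t)|`. -/
theorem five19 {y t : Mon} (hy : orderOf y = 5) (ht : orderOf t = 2) (hyt : y * t = t * y)
    (hex : ∃ g : Mon, (g * KDone.K.z * g⁻¹) * y = y * (g * KDone.K.z * g⁻¹)) :
    ¬ 19 ∣ Nat.card ↥(XT y t) := by
  have hfin : Finite Mon := MThirteen.Row.finite
  have hsim : IsSimpleGroup Mon := MThirteen.Row.simple
  have : Fact (Nat.Prime 5) := ⟨Nat.prime_five⟩
  have : Fact (Nat.Prime 19) := ⟨by norm_num⟩
  have h := KChart.chart KDone.lft MFive.Row.hc
  rcases MFive.Row.cases_model CpAutBFive.Final.coFive (MFiveHN.Closed.hnEight h) hy hex with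
    ⟨⟨e⟩⟩ | ⟨y₀, k, i, hy₀, hfr, hk⟩
  · obtain ⟨τ, hτ, hd⟩ := card_XT_dvd Nat.prime_five (by norm_num) hy ht hyt
    rw [LThreeB.card_centralizer_congr e] at hd
    intro h19
    have h4 := h19.trans hd
    rcases Cfsg.Agent.SigZeroHN.card_centralizer_cases (u := e τ)
      (by rw [MulEquiv.orderOf_eq]; exact hτ) with ⟨-, h5⟩ | ⟨-, h5⟩
    · rw [h5] at h4; norm_num at h4
    · rw [h5] at h4; norm_num at h4
  · refine not_dvd_XT (MThirteen.not_dvd_conj Nat.prime_five hy (by rw [Subgroup.orderOf_coe, hy₀]) hk ?_)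
    have hy₀' : orderOf (KChart.pi MFive.Row.hc y₀) = 5 := MFive.orderOf_pi h Nat.prime_five (by decide) hy₀
    obtain ⟨e⟩ := MFive.JTwo.isoJ2 hy₀' hfr
    have hc : Nat.card (XX (KChart.pi MFive.Row.hc y₀)) = 604800 :=
      (Nat.card_congr e.toEquiv).trans Cfsg.Agent.S1619.result.2.2.2
    refine MThirteen.not_dvd_zero (r := 5) (p := 19) (q := 5) (m := 1) Nat.prime_five (by decide)
      (by norm_num) (by norm_num) (by norm_num) ?_ ?_ h hy₀ hfr ?_
      ((MulEquiv.isSimpleGroup_congr e).2 Cfsg.Agent.S1620.result.1) ?_ ?_ ?_ ?_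
    · intro i hi1 hi3
      obtain rfl : i = 1 := by omega
      norm_num
    · rw [MThirteen.Row.card_M]
      norm_num
    · intro d hd hc
      exact MFive.isolated h (MFive.KPair.trNe_five KDone.lft LThreeMBTr.tens MFive.Row.hc) hy₀ hfr d hd hc
    · rw [hc]; decide
    · rw [hc]; norm_num
    · rw [hc]; norm_num
    · exact PreUniq.MonRow.exists_kk Nat.prime_five (by decide) MThirteen.FiveRow.neg_five y₀ hy₀ hfr

/-- **an element of order 5 commuting with an involution and an element of order 19** -/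
theorem five_comm_19 (h : Spor.IsoB L) {x y w : L}
    (hx : orderOf x = 5) (hy : orderOf y = 19) (hw : orderOf w = 2) (hxw : x * w = w * x) : x * y ≠ y * x := by
  intro hxy
  have hfin : Finite Mon := MThirteen.Row.finite
  obtain ⟨t, ht, h2, ⟨e⟩⟩ := exists_cover h
  obtain ⟨a, ha, ha'⟩ := exists_lift h2 Nat.prime_five (by norm_num) (x := e.symm x) (by rw [MulEquiv.orderOf_eq, hx])
  obtain ⟨b, hb, hb'⟩ := exists_lift h2 (by norm_num : Nat.Prime 19) (by norm_num) (x := e.symm y)
    (by rw [MulEquiv.orderOf_eq, hy])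
  have ha5 : a ^ 5 = 1 := by rw [← ha, pow_orderOf_eq_one]
  have hab : a * b = b * a := lift_comm le_rfl h2 (by decide : Odd 5) ha5 (by rw [ha', hb', ← map_mul e.symm, hxy, map_mul e.symm])
  have h4 : 4 ∣ Nat.card ↥(centralizer ({(a : Mon)} : Set Mon)) :=
    four_dvd h2 e (by decide : Odd 5) ha5 hw (by rw [ha', e.apply_symm_apply, hxw])
  have haM : orderOf (a : Mon) = 5 := by rw [Subgroup.orderOf_coe, ha]
  have hex := (CpAutBFive.EvenRow.cases haM).resolve_right fun h => h h4
  apply five19 haM (MThirteen.Row.ta_order ht) (mem_centralizer_singleton_iff.1 a.2) hex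
  rw [← hb, ← Subgroup.orderOf_coe b]
  exact orderOf_dvd_of_comm (mem_XT.2 ⟨(congrArg Subtype.val hab).symm, mem_centralizer_singleton_iff.1 b.2⟩)

/-- **Elements of orders 5 and 17, 19, 23 do not commute.** -/
theorem strong_five (h : Spor.IsoB L) {q : ℕ} (hq : q ∈ [17, 19, 23]) {x y : L} (hx : orderOf x = 5)
    (hy : orderOf y = q) : x * y ≠ y * x := by
  have hN := NotCT.Orders.b h
  have hqp : q.Prime ∧ q ≠ 5 ∧ ¬ 5 ∣ q - 1 ∧ ¬ q ^ 2 ∣ Nat.card L ∧ (∀ k, k ≠ 0 → k ≤ 6 → ¬ q ∣ 5 ^ k - 1) ∧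
      ¬ q ∣ 5 * 177408000 ∧ ¬ q ∣ 5 * 3686400 := by
    rw [hN]
    simp only [List.mem_cons, List.not_mem_nil, or_false] at hq
    rcases hq with rfl | rfl | rfl
    all_goals
      refine ⟨by norm_num, by norm_num, by norm_num, by norm_num, ?_, by norm_num, by norm_num⟩
      intro k hk0 hk6
      interval_cases k <;> first | exact absurd rfl hk0 | norm_num
  obtain ⟨hqpr, hq5, h51, hq2, hk, hc1, hc2⟩ := hqp
  have : Fact (Nat.Prime 5) := ⟨Nat.prime_five⟩
  have : Fact q.Prime := ⟨hqpr⟩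
  obtain ⟨y0, hy0, c, hc, hcd⟩ := exists_five h
  have hn0 : ¬ q ∣ Nat.card ↥(centralizer ({y0} : Set L)) := by
    intro hd
    rcases hc with rfl | rfl
    · exact hc1 (hd.trans hcd)
    · exact hc2 (hd.trans hcd)
  have even : ∀ {x y w : L}, orderOf x = 5 → orderOf y = q → orderOf w = 2 → x * w = w * x → x * y ≠ y * x := by
    intro x y w hx hy hw hxw
    simp only [List.mem_cons, List.not_mem_nil, or_false] at hq
    rcases hq with rfl | rfl | rfl
    · exact five_comm h (by simp) hx hy hw hxw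
    · exact five_comm_19 h hx hy hw hxw
    · exact five_comm h (by simp) hx hy hw hxw
  intro hxy
  refine H296.OneElt.not_comm (p := 5) (l := q) h51 hq2 ?_ (y0 := y0)
    ⟨1, by rw [pow_one, ← hy0, pow_orderOf_eq_one]⟩ hn0 hy hx hxy.symm
  intro x y hx hy hxy
  by_cases ho : Odd (Nat.card ↥(centralizer ({y} : Set L)))
  · refine H377.SporB.inCore_of_solvable hq5.symm (fun k hk0 hd => hk k hk0 ?_) hx hxy (Cfsg.Agent.S0205.result ho)
    by_contra hc
    have h1 : 5 ^ 7 ∣ Nat.card L := (pow_dvd_pow 5 (by omega)).trans hd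
    rw [hN] at h1
    norm_num at h1
  · exfalso
    rw [Nat.not_odd_iff_even, even_iff_two_dvd] at ho
    have : Fact (Nat.Prime 2) := ⟨Nat.prime_two⟩
    obtain ⟨w, hw⟩ := exists_prime_orderOf_dvd_card' (G := ↥(centralizer ({y} : Set L))) 2 ho
    exact even (w := (w : L)) hy hx (by rw [Subgroup.orderOf_coe, hw])
      (mem_centralizer_singleton_iff.1 w.2).symm hxy.symm

/-- **The pairs `(5, q)`**, `q ≠ 11`. -/
theorem nc_five (h : Spor.IsoB L) {q : ℕ} (hq : q ∈ [3, 7, 13, 17, 19, 23, 31, 47]) : NC 5 q L := by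
  have hN := NotCT.Orders.b h
  obtain ⟨y0, hy0, c, hc, hcd⟩ := exists_five h
  have key : ∀ {q a : ℕ}, q.Prime → 5 ≠ q → q ^ a ∣ 4154781481226426191177580544000000 →
      ¬ q ^ a ∣ 5 * 177408000 → ¬ q ^ a ∣ 5 * 3686400 → NC 5 q L := by
    intro q a hq h5 h1 h2 h3
    refine nc_of_card (a := a) hq h5 ⟨1, by rw [pow_one, hy0]⟩ (by rw [hN]; exact h1) fun h4 => ?_
    rcases hc with rfl | rfl
    · exact h2 (h4.trans hcd)
    · exact h3 (h4.trans hcd)
  simp only [List.mem_cons, List.not_mem_nil, or_false] at hq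
  rcases hq with rfl | rfl | rfl | rfl | rfl | rfl | rfl | rfl
  · exact key (a := 13) (by norm_num) (by norm_num) (by norm_num) (by norm_num) (by norm_num)
  · exact key (a := 2) (by norm_num) (by norm_num) (by norm_num) (by norm_num) (by norm_num)
  all_goals exact key (a := 1) (by norm_num) (by norm_num) (by norm_num) (by norm_num) (by norm_num)

/-- **The pair `(3, 7)`.** -/
theorem nc_3_7 (h : Spor.IsoB L) : NC 3 7 L := by
  have hN := NotCT.Orders.b h
  have hfin : Finite Mon := MThirteen.Row.finite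
  have : Fact (Nat.Prime 7) := ⟨by norm_num⟩
  obtain ⟨y, hy⟩ := exists_prime_orderOf_dvd_card' (G := L) 7 (by rw [hN]; norm_num)
  obtain ⟨t, x, ht, hx, hxt, hc⟩ := exists_lift_card h (by norm_num) (by norm_num) hy
  refine (nc_of_card (p := 7) (q := 3) (a := 13) (by norm_num) (by norm_num) ⟨1, by rw [pow_one, hy]⟩
    (by rw [hN]; norm_num) fun h1 => ?_).symm
  have h2 : Nat.card ↥(XT x t) ∣ 4030387200 * 7 := by
    rw [← H478.SporBaby.card_cent (v := t) ht hx hxt]
    exact card_dvd_of_le inf_le_left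
  have h3 := h1.trans (card_dvd_XT (r := 7) hc h2)
  norm_num at h3

/-- **The pair `(3, 13)`.** -/
theorem nc_3_13 (h : Spor.IsoB L) : NC 3 13 L := by
  have hN := NotCT.Orders.b h
  have hfin : Finite Mon := MThirteen.Row.finite
  have : Fact (Nat.Prime 13) := ⟨by norm_num⟩
  obtain ⟨y, hy⟩ := exists_prime_orderOf_dvd_card' (G := L) 13 (by rw [hN]; norm_num)
  obtain ⟨t, x, ht, hx, hxt, hc⟩ := exists_lift_card h (by norm_num) (by norm_num) hy
  refine (nc_of_card (p := 13) (q := 3) (a := 13) (by norm_num) (by norm_num) ⟨1, by rw [pow_one, hy]⟩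
    (by rw [hN]; norm_num) fun h1 => ?_).symm
  refine MThirteen.Row.not_nine CoOneFin.coOne hx ht hxt ?_
  have h2 : 3 ^ 13 ∣ Nat.card ↥(XT x t) := by
    rw [hc]
    exact h1.mul_right 2
  exact (by norm_num : 9 ∣ 3 ^ 13).trans h2

end

/-! ### The pair `(3, 11)` -/

/-- the centralizers of the involutions of the Suzuki group have order prime to 11 -/
theorem suz_cent {X : Type u} [Group X] (h : Spor.IsoSuz X) (v : X) (hv : v * v = 1) (hv1 : v ≠ 1) :
    ¬ 11 ∣ Nat.card ↥(centralizer ({v} : Set X)) := by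
  obtain ⟨e⟩ := h
  rw [LThreeB.card_centralizer_congr e]
  rcases CTwoTab.Suz.classes (t := e v) (by rw [← map_mul, hv, map_one])
    (fun h1 => hv1 (e.injective (by rw [h1, map_one]))) with h2 | h2
  · rw [← MThirteen.card_cent_conj h2, SuzThree.CentCard.card_C1]
    norm_num
  · rw [← MThirteen.card_cent_conj h2, KFacts.SuzTwoB.card_CE]
    norm_num

/-- **Fixed rank 0**: no element of order 11 commutes with `y` and with an involution not conjugate to `z`. -/
theorem zero11 {y : centralizer ({KDone.K.z} : Set Mon)} (hy : orderOf y = 3)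
    (hfr : fr (KChart.pi LThreeB.Row.cent y) = 1) {x t : Mon} (hx : orderOf x = 11)
    (hto : orderOf t = 2) (htz : ∀ g : Mon, g * t * g⁻¹ ≠ KDone.K.z) (hxt : x * t = t * x)
    (hxy : x * (y : Mon) = y * x) (hty : t * (y : Mon) = y * t) : False := by
  have hfin : Finite Mon := MThirteen.Row.finite
  have h := chart
  have hS : Spor.IsoSuz (XX (KChart.pi LThreeB.Row.cent y)) := CoOneFin.coOne.suz _ (orderOf_pi h hy) hfr
  have hy3 : y ^ 3 = 1 := by rw [← hy, pow_orderOf_eq_one]
  have : Fact (Nat.Prime 13) := ⟨by norm_num⟩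
  have : Fact (Nat.Prime 11) := ⟨by norm_num⟩
  obtain ⟨k, hk⟩ := MThirteen.exists_sq_zD KDone.lft LThreeB.Row.cent hy hfr hS
  have hcS : Nat.card (XX (KChart.pi LThreeB.Row.cent y)) = 448345497600 := by
    obtain ⟨e⟩ := hS
    rw [Nat.card_congr e.toEquiv]
    exact SporadicRecognition.SuzOrder.card_Suz
  refine MThirteen.no_comm (z := zD y) (toXX (KChart.pi LThreeB.Row.cent) y) (p := 11) (q := 13) (m := 2)
    (by norm_num) (by norm_num) (by norm_num) ?_ ?_ ?_ ?_ (Listed.suz hS : Good.{0} _).simple ?_ ?_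
    (toXX_surj h hy3) (LThreeBX.Main.ker h hy3 hfr) hk (suz_cent hS)
    (x := ⟨x, mem_centralizer_singleton_iff.2 hxy⟩) (t := ⟨t, mem_centralizer_singleton_iff.2 hty⟩) ?_ ?_ ?_ ?_
  · intro i hi1 hi3
    interval_cases i <;> norm_num
  · intro h1
    have h2 := h1.trans (Subgroup.card_subgroup_dvd_card _)
    rw [MThirteen.Row.card_M] at h2
    norm_num at h2
  · rw [← Subgroup.orderOf_coe]
    exact LargeExtra.Base.orderOf_z h.large
  · intro d hd
    exact Subtype.ext (isolated h MThirteen.Row.trNe hy hfr d (mem_centralizer_singleton_iff.1 d.2)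
      (congrArg Subtype.val hd))
  · rw [hcS]
    decide
  · rw [hcS]
    norm_num
  · rw [← Subgroup.orderOf_coe]
    exact hx
  · rw [← Subgroup.orderOf_coe]
    exact hto
  · intro d hd
    exact htz d (congrArg Subtype.val hd)
  · exact Subtype.ext hxt

end Cfsg.Agent.H630.Baby
end

-- part: H630/NHBabyD
section
set_option linter.all false
open scoped Cfsg.Agent.FastGrp

/-!
# Row of the nilpotent Hall cluster: the Baby Monster, the pair (3, 11) (helper630)
-/

set_option autoImplicit false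
set_option maxRecDepth 100000

namespace Cfsg.Agent.H630.Baby

open Cfsg Cfsg.Agent.MonsterX Cfsg.Agent.MonsterX.InstData Cfsg.Agent.MonsterX.MainPack Cfsg.Agent.MonsterU
open Cfsg.Agent.MonsterP Cfsg.Agent.MonsterN Cfsg.Agent.LThree Cfsg.Agent.LThreeMB
open Cfsg.Agent.MonsterX.MainBasic Cfsg.Agent.MonsterX.MainSimple Cfsg.Agent.MonsterX.Model
open Cfsg.Agent.LThreeB (XT mem_XT centXT centXT' conjXT)
open Subgroup (centralizer mem_centralizer_singleton_iff center card_dvd_of_le)
open Cfsg.Spor (Co1)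
open Cfsg.Agent.H979.BAdj Cfsg.Agent.H979.CovLift Cfsg.Agent.H979.OddB
open Cfsg.Agent.H630.NH Cfsg.Agent.H241.NH

universe u v

section

open Cfsg.Agent.R08 Cfsg.Agent.R08.FiTwentyFour

/-- products of two commuting transpositions: the 3-part of the order of the centralizer -/
theorem pair_three {a b : Spor.Fi24} (P : Cfsg.Agent.R08.TetFi24A.At a b) {t : Spor.Fi24'}
    (ht : (t : Spor.Fi24) = a * b) : ¬ 3 ^ 10 ∣ Nat.card ↥(centralizer ({t} : Set Spor.Fi24')) := by
  have : Fact (Nat.Prime 3) := ⟨Nat.prime_three⟩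
  have := finite_Fi24
  have : Finite Spor.Fi24' := inferInstance
  intro hd
  -- squares in `C(t)` are in `Cab`
  have sqm : ∀ y : Spor.Fi24', y * t = t * y → ((y * y : Spor.Fi24') : Spor.Fi24) ∈ Cab a b := by
    intro y hy
    have h1 := CTwoTab.FiTF.fix_or_swap P ht (mem_centralizer_singleton_iff.2 hy)
    have h2 : ((y * y : Spor.Fi24') : Spor.Fi24) * a * ((y * y : Spor.Fi24') : Spor.Fi24)⁻¹ = a ∧
        ((y * y : Spor.Fi24') : Spor.Fi24) * b * ((y * y : Spor.Fi24') : Spor.Fi24)⁻¹ = b := by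
      have e : ∀ c : Spor.Fi24, ((y * y : Spor.Fi24') : Spor.Fi24) * c * ((y * y : Spor.Fi24') : Spor.Fi24)⁻¹ =
          (y : Spor.Fi24) * ((y : Spor.Fi24) * c * (y : Spor.Fi24)⁻¹) * (y : Spor.Fi24)⁻¹ := by
        intro c
        rw [Subgroup.coe_mul]
        group
      rw [e, e]
      rcases h1 with ⟨h3, h4⟩ | ⟨h3, h4⟩ <;> simp only [h3, h4, and_self]
    rw [mem_Cab]
    exact ⟨mem_commutator_iff.1 (y * y : Spor.Fi24').2, mul_inv_eq_iff_eq_mul.1 h2.1, mul_inv_eq_iff_eq_mul.1 h2.2⟩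
  obtain ⟨S, hS⟩ := Sylow.exists_subgroup_card_pow_prime 3 (G := ↥(centralizer ({t} : Set Spor.Fi24'))) (n := 10) hd
  have hmem : ∀ s : S, (((s : ↥(centralizer ({t} : Set Spor.Fi24'))) : Spor.Fi24') : Spor.Fi24) ∈ Cab a b := by
    intro s
    set x : Spor.Fi24' := ((s : ↥(centralizer ({t} : Set Spor.Fi24'))) : Spor.Fi24') with hx
    have hxt : Commute x t := mem_centralizer_singleton_iff.1 (s : ↥(centralizer ({t} : Set Spor.Fi24'))).2
    have hs : s ^ (3 ^ 10) = 1 := by rw [← hS]; exact pow_card_eq_one'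
    have hxq : x ^ (59049 : ℕ) = 1 := by
      have h1 := congrArg (fun s : S => ((s : ↥(centralizer ({t} : Set Spor.Fi24'))) : Spor.Fi24')) hs
      exact h1
    have hxe : x = x ^ 29525 * x ^ 29525 := by
      rw [← pow_add, show 29525 + 29525 = 59049 + 1 by norm_num, pow_succ, hxq, one_mul]
    rw [hxe]
    exact sqm _ ((hxt.pow_left 29525).eq)
  let f : S →* ↥(Cab a b) :=
    { toFun := fun s => ⟨(((s : ↥(centralizer ({t} : Set Spor.Fi24'))) : Spor.Fi24') : Spor.Fi24), hmem s⟩
      map_one' := rfl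
      map_mul' := fun _ _ => rfl }
  have hf : Function.Injective f := by
    intro s s' hss
    have h1 := congrArg (fun c : ↥(Cab a b) => (c : Spor.Fi24)) hss
    exact Subtype.ext (Subtype.ext (Subtype.ext h1))
  have h1 := Subgroup.card_dvd_of_injective f hf
  rw [hS, OddHalf.D4.Spor.FiTF.card_Cab P] at h1
  norm_num at h1

end

section

variable {G : Type u} [Group G] {Q : Subgroup G} {z : G} {eta : G → Lam2.L2}
  {pi : Subgroup.centralizer ({z} : Set G) →* Co1}

/-- **the involutions of `Fi24'`** : the 3-part of the order of the centralizer -/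
theorem fi24_three [Finite G] [IsSimpleGroup G] (h : Ch.Chart Q z eta pi) (I : CoOne) {s : Spor.Fi24'}
    (hs : orderOf s = 2) : ¬ 3 ^ 10 ∣ Nat.card ↥(centralizer ({s} : Set Spor.Fi24')) := by
  intro hd
  rcases CTwoTab.FiTF.classes s hs with ⟨a, b, P, h1⟩ | ⟨c, hc⟩
  · exact pair_three P h1 hd
  · obtain ⟨r, hr, hfs, ht, h4⟩ := I.psu
    obtain ⟨x, hx, rfl⟩ := KPair.exists_order_three h hr
    obtain ⟨h1, h3⟩ := card_tt h hx hfs ht
    obtain ⟨e⟩ := iso_fi24 h hx hfs (by rw [hfs]; exact I.twelve) ht h4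
    have h5 : Nat.card ↥(centralizer ({e (tt x)} : Set Spor.Fi24')) = 2 * (3265920 * 3) * 2 ^ 13 := by
      rw [← LThreeB.card_centralizer_congr e, h3]
    rcases CTwoTab.FiTF.classes (e (tt x)) (by rw [MulEquiv.orderOf_eq, h1]) with ⟨a, b, P, h6⟩ | ⟨c', hc'⟩
    · exfalso
      have h7 := LThreeB.dvd_pair P h6
      rw [h5] at h7
      norm_num at h7
    · rw [← MThirteen.card_cent_conj (isConj_iff.2 ⟨c * c'⁻¹, by
        rw [hc', hc]
        group⟩ : IsConj (e (tt x)) s), h5] at hd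
      norm_num at hd

end

/-- **`y` of order 3 in `C(z)`**, commuting with `t` in the class 2A and `x` of order 11. -/
theorem three_cent11 {y : centralizer ({KDone.K.z} : Set Mon)} (hy : orderOf y = 3)
    {t x : Mon} (ht : orderOf t = 2) (htz : ∀ g : Mon, g * t * g⁻¹ ≠ KDone.K.z) (hyt : (y : Mon) * t = t * y)
    (hx : orderOf x = 11) (hxt : x * t = t * x) (hxy : x * (y : Mon) = y * x) :
    ¬ 3 ^ 11 ∣ Nat.card ↥(XT (y : Mon) t) := by
  have hfin : Finite Mon := MThirteen.Row.finite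
  have hsim : IsSimpleGroup Mon := MThirteen.Row.simple
  have h := chart
  have I := CoOneFin.coOne
  have hy' : orderOf (y : Mon) = 3 := by rw [Subgroup.orderOf_coe, hy]
  rcases I.ranks (KChart.pi LThreeB.Row.cent y) (orderOf_pi h hy) with h1 | h1 | h1 | h1
  · exact (zero11 hy h1 hx ht htz hxt hxy hyt.symm).elim
  · obtain ⟨x₀, u, g, hx₀, hfr₀, huz, hux, hne, hg⟩ := MThirteen.Row.hasPair
    obtain ⟨k, hk⟩ := conj_six h MThirteen.Row.trNe I.ranks I.six
      (fun x hx h2 => ⟨(good_of_inputs h I hx h2 : Good.{0} _).simple, (good_of_inputs h I hx h2 : Good.{0} _).nc⟩)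
      hx₀ hfr₀ huz hux hne hg hy h1
    refine (zero11 (x := k * x * k⁻¹) (t := k * t * k⁻¹) hx₀ hfr₀ ?_ ?_ ?_ (LThreeB.conj_comm' hxt) ?_ ?_).elim
    · rw [← hx]; exact MulEquiv.orderOf_eq (MulAut.conj k) x
    · rw [← ht]; exact MulEquiv.orderOf_eq (MulAut.conj k) t
    · intro g' hg'
      refine htz (g' * k) ?_
      rw [← hg']
      group
    · rw [← hk]
      exact LThreeB.conj_comm' hxy
    · rw [← hk]
      exact LThreeB.conj_comm' hyt.symm
  · obtain ⟨e⟩ := LThreeB.isoTh_of_inputs h I hy h1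
    obtain ⟨τ, hτ, hd⟩ := card_XT_dvd Nat.prime_three (by norm_num) hy' ht hyt
    rw [LThreeB.card_centralizer_congr e, card_inv_th (by rw [MulEquiv.orderOf_eq, hτ])] at hd
    intro h3
    have h4 := h3.trans hd
    norm_num at h4
  · obtain ⟨e⟩ := LThreeB.isoFi_of_inputs h I hy h1
    obtain ⟨τ, hτ, hd⟩ := card_XT_dvd Nat.prime_three (by norm_num) hy' ht hyt
    rw [LThreeB.card_centralizer_congr e] at hd
    intro h3
    refine fi24_three h I (s := e τ) (by rw [MulEquiv.orderOf_eq, hτ]) ?_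
    have h4 : 3 * 3 ^ 10 ∣ 3 * Nat.card ↥(centralizer ({e τ} : Set Spor.Fi24')) := h3.trans hd
    exact Nat.dvd_of_mul_dvd_mul_left (by norm_num) h4

/-- **`y` of order 3 commuting with `t` in the class 2A and `x` of order 11.** -/
theorem three11 {y t x : Mon} (hy : orderOf y = 3) (ht : LThreeB.Row.TA t) (hyt : y * t = t * y)
    (hx : orderOf x = 11) (hxt : x * t = t * x) (hxy : x * y = y * x) : ¬ 3 ^ 11 ∣ Nat.card ↥(XT y t) := by
  obtain ⟨g, hg, -⟩ := LThreeM.FiRow.exists_z_in (x := y) (v := t) (by rw [← hy, pow_orderOf_eq_one]) ht hyt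
  have h1 : (g⁻¹ * y * g⁻¹⁻¹) * KDone.K.z = KDone.K.z * (g⁻¹ * y * g⁻¹⁻¹) := by
    calc (g⁻¹ * y * g⁻¹⁻¹) * KDone.K.z = g⁻¹ * (y * (g * KDone.K.z * g⁻¹)) * g := by group
      _ = g⁻¹ * ((g * KDone.K.z * g⁻¹) * y) * g := by rw [hg]
      _ = KDone.K.z * (g⁻¹ * y * g⁻¹⁻¹) := by group
  rw [← card_XT_conj g⁻¹ y t]
  refine three_cent11 (y := ⟨g⁻¹ * y * g⁻¹⁻¹, mem_centralizer_singleton_iff.2 h1⟩) (x := g⁻¹ * x * g⁻¹⁻¹) ?_ ?_ ?_ ?_ ?_
    (LThreeB.conj_comm' hxt) (LThreeB.conj_comm' hxy)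
  · rw [← Subgroup.orderOf_coe, ← hy]
    exact MulEquiv.orderOf_eq (MulAut.conj g⁻¹) y
  · rw [← MThirteen.Row.ta_order ht]
    exact MulEquiv.orderOf_eq (MulAut.conj g⁻¹) t
  · intro g' hg'
    refine MThirteen.Row.ta_ne ht (g' * g⁻¹) ?_
    rw [← hg']
    group
  · exact LThreeB.conj_comm' hyt
  · rw [← hx]
    exact MulEquiv.orderOf_eq (MulAut.conj g⁻¹) x

/-- **The pair `(3, 11)`.** -/
theorem nc_3_11 {L : Type u} [Group L] [Finite L] (h : Spor.IsoB L) : NC 3 11 L := by
  have hN := NotCT.Orders.b h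
  have hfin : Finite Mon := MThirteen.Row.finite
  have h3f : Fact (Nat.Prime 3) := ⟨Nat.prime_three⟩
  obtain ⟨P⟩ : Nonempty (Sylow 3 L) := inferInstance
  have hP : 3 ^ 13 ∣ Nat.card (P : Subgroup L) := by
    obtain ⟨k, hk⟩ := IsPGroup.iff_card.1 P.2
    rw [hk]
    refine pow_dvd_pow 3 ?_
    by_contra hlt
    have h1 := P.not_dvd_index
    have h2 := (P : Subgroup L).card_mul_index
    rw [hk, hN] at h2
    apply h1
    have h3 : 3 ^ 13 ∣ 3 ^ k * (P : Subgroup L).index := by rw [h2]; norm_num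
    have h4 : 3 ^ k * 3 ∣ 3 ^ k * (P : Subgroup L).index := by
      refine Dvd.dvd.trans ?_ h3
      rw [← pow_succ]
      exact pow_dvd_pow 3 (by omega)
    exact Nat.dvd_of_mul_dvd_mul_left (by positivity) h4
  have hnt : Nontrivial (P : Subgroup L) := by
    rw [← Finite.one_lt_card_iff_nontrivial]
    exact lt_of_lt_of_le (by norm_num) (Nat.le_of_dvd Nat.card_pos hP)
  have hZ : Nontrivial (center (P : Subgroup L)) := P.2.center_nontrivial
  have hZp : IsPGroup 3 (center (P : Subgroup L)) := P.2.to_subgroup _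
  have hd3 : 3 ∣ Nat.card (center (P : Subgroup L)) := by
    obtain ⟨k, hk⟩ := IsPGroup.iff_card.1 hZp
    have h1 : 1 < Nat.card (center (P : Subgroup L)) := Finite.one_lt_card_iff_nontrivial.2 hZ
    rw [hk] at h1 ⊢
    exact dvd_pow_self 3 (by rintro rfl; simp at h1)
  obtain ⟨y, hy⟩ := exists_prime_orderOf_dvd_card' 3 hd3
  have hyL : orderOf (((y : center (P : Subgroup L)) : (P : Subgroup L)) : L) = 3 := by
    rw [Subgroup.orderOf_coe, Subgroup.orderOf_coe, hy]
  have hPc : (P : Subgroup L) ≤ centralizer ({(((y : center (P : Subgroup L)) : (P : Subgroup L)) : L)} : Set L) := by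
    intro g hg
    rw [mem_centralizer_singleton_iff]
    exact congrArg Subtype.val (Subgroup.mem_center_iff.1 y.2 ⟨g, hg⟩)
  have h13 := hP.trans (card_dvd_of_le hPc)
  generalize (((y : center (P : Subgroup L)) : (P : Subgroup L)) : L) = y' at *
  refine nc_of_elem (by norm_num) (by norm_num) (by rw [hN]; norm_num) hyL fun w hw hyw => ?_
  obtain ⟨t, ht, h2, ⟨e⟩⟩ := exists_cover h
  obtain ⟨a, ha, ha'⟩ := exists_lift h2 Nat.prime_three (by norm_num) (x := e.symm y') (by rw [MulEquiv.orderOf_eq, hyL])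
  obtain ⟨b, hb, hb'⟩ := exists_lift h2 (by norm_num : Nat.Prime 11) (by norm_num) (x := e.symm w)
    (by rw [MulEquiv.orderOf_eq, hw])
  have hab : a * b = b * a := lift_comm le_rfl h2 (by decide : Odd 3) (by rw [← ha, pow_orderOf_eq_one])
    (by rw [ha', hb', ← map_mul, hyw, map_mul])
  refine three11 (y := (a : Mon)) (x := (b : Mon)) (by rw [Subgroup.orderOf_coe, ha]) ht
    (mem_centralizer_singleton_iff.1 a.2) (by rw [Subgroup.orderOf_coe, hb]) (mem_centralizer_singleton_iff.1 b.2)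
    (congrArg Subtype.val hab).symm ?_
  rw [Nat.card_congr (centXT a).toEquiv, card_cent h2 e Nat.prime_three (by norm_num) ha, ha', e.apply_symm_apply]
  exact ((pow_dvd_pow 3 (by norm_num)).trans h13).mul_right 2

end Cfsg.Agent.H630.Baby
end

-- part: H844/Ore/BInv
section
set_option linter.all false
open scoped Cfsg.Agent.FastGrp

/-!
# Row B of Ore: the involutions of the Baby Monster (helper844)

* `cases_inv` : the elements of odd order commuting with an involution `u` commute with a transposition, or their lifts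
  commute with an involution of the Monster conjugate to `z`;
* `dvd_pow` : `p ^ n ∣ |C(u)|`, `p` odd, implies `p ^ n ∣ |C(t)|` or `p ^ n ∣ 2 ^ 25 |Co₁|`;
* `not_three` : `3 ^ 10` does not divide `|C(u)|`.
-/

set_option autoImplicit false
set_option maxRecDepth 100000
set_option linter.unusedSectionVars false

namespace Cfsg.Agent.H844.Ore.BInv

open Subgroup Cfsg Cfsg.Agent.R01.Lifts Cfsg.Agent.MonsterN Cfsg.Agent.MonsterN.Lit
open Cfsg.Agent.BabyComp Cfsg.Agent.BabyComp.Main Cfsg.Agent.BabyComp.BaseTwo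
open Cfsg.Agent.H713.Spor

section

variable {B X E : Type*} [Group B] [Group X] [Group E] [Finite B] [Finite X] {q : B →* X} {τ : B} {R : Set E}
variable {y : ℕ → B} {h : Pre y} {π : KK y →* E} {f₁ f₂ f₃ f₄ : B}

theorem comm_of_odd (hq : Ext q τ) {b x : B} (hx : Odd (orderOf x)) (hbx : q b * q x = q x * q b) :
    b * x = x * b := BOf.comm_of_map hq hx (pow_orderOf_eq_one x) hbx

/-- **The main statement.** -/
theorem cases_inv {F : Type*} [Field F] [Fintype F] {hF : Fintype.card F = 2 ^ 2}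
    (hR : Cfsg.Agent.BabyU.RootCfg.RootFacts hF R) (hX : Cfsg.Agent.BabyU.Key.Extra hF R)
    (Rt : Cfsg.Agent.BabyU.Lab.Roots E R)
    (hq : Ext q τ) (h10 : y 10 = τ) (D : KD h R π) (Fc : FusionType.Facts τ f₁ f₂ f₃ f₄)
    {Γ : Type*} [Group Γ] [Finite Γ] {θ : B →* Γ} {z : Γ}
    (hcz : IsConj z (θ (τ * (f₁ * f₂)))) (hcd : IsConj z (θ (f₁ * f₂ * f₃)))
    (hc5 : IsConj f₁ (y 5)) (big : KEq.Big B τ (y 5)) {M₁ : Subgroup X} (Bs : Base2 (q (y 5)) M₁)
    {u : X} (hu : orderOf u = 2) :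
    (∃ t' : X, IsConj (q (y 5)) t' ∧ ∀ v : X, Odd (orderOf v) → v * u = u * v → v * t' = t' * v) ∨
      ∃ w : B, IsConj z (θ w) ∧ ∀ x : B, Odd (orderOf x) → q x * u = u * q x → x * w = w * x := by
  have huu : u * u = 1 := by rw [← pow_two, ← hu, pow_orderOf_eq_one]
  have hu1 : u ≠ 1 := by
    rintro rfl
    rw [orderOf_one] at hu
    omega
  obtain ⟨b, rfl⟩ := hq.surj u
  have hbb : b * b = 1 ∨ b * b = τ := (hq.ker _).1 (by rw [map_mul, huu])
  rcases hbb with hbb | hbb
  · rcases Fc.classes b hbb (fun e => hu1 (by rw [e, map_one])) (fun e => hu1 (by rw [e, hq.mapz])) with h1 | h1 | h1 | h1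
    · exact Or.inl ⟨q b, q.map_isConj (hc5.symm.trans h1), fun v _ hv => hv⟩
    · refine Or.inr ⟨τ * b, hcz.trans (θ.map_isConj (FusionType.conj_mul_t Fc.cen h1)), fun x hx hxb => ?_⟩
      have hbx := comm_of_odd hq hx hxb.symm
      calc x * (τ * b) = x * τ * b := by group
        _ = τ * (x * b) := by rw [hq.comm]; group
        _ = τ * b * x := by rw [← hbx]; group
    · exact Or.inr ⟨b, hcz.trans (θ.map_isConj h1), fun x hx hxb => (comm_of_odd hq hx hxb.symm).symm⟩
    · exact Or.inr ⟨b, hcd.trans (θ.map_isConj h1), fun x hx hxb => (comm_of_odd hq hx hxb.symm).symm⟩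
  · left
    have hM := BaseTwo.Base.eq_map hq h10 big Bs.toBase
    -- `u` has no conjugate in `M₁`
    have hno : ∀ g : X, g⁻¹ * q b * g ∉ M₁ := by
      intro g hg
      obtain ⟨c, rfl⟩ := hq.surj g
      obtain ⟨k, hk, hqk⟩ := M_le hq h10 big Bs.toBase _ hg
      have hkk : k * k = 1 := by
        refine lift_sq hR hX Rt hq h10 D hk ?_
        rw [hqk]
        calc (q c)⁻¹ * q b * q c * ((q c)⁻¹ * q b * q c) = (q c)⁻¹ * (q b * q b) * q c := by group
          _ = 1 := by rw [huu]; group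
      have h1 : q k = q (c⁻¹ * b * c) := by rw [hqk, map_mul, map_mul, map_inv]
      have h2 : k * k = τ := by
        have h3 : c⁻¹ * b * c * (c⁻¹ * b * c) = τ := by
          calc c⁻¹ * b * c * (c⁻¹ * b * c) = c⁻¹ * (b * b) * c := by group
            _ = c⁻¹ * (τ * c) := by rw [hbb, mul_assoc]
            _ = c⁻¹ * (c * τ) := by rw [hq.comm]
            _ = τ := by group
        rcases hq.map_eq.1 h1 with h4 | h4
        · rw [h4, h3]
        · rw [h4]
          calc c⁻¹ * b * c * τ * (c⁻¹ * b * c * τ) = c⁻¹ * b * c * (τ * (c⁻¹ * b * c)) * τ := by group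
            _ = c⁻¹ * b * c * (c⁻¹ * b * c * τ) * τ := by rw [hq.comm (c⁻¹ * b * c)]
            _ = (c⁻¹ * b * c * (c⁻¹ * b * c)) * (τ * τ) := by group
            _ = τ := by rw [h3, hq.zz, mul_one]
      rw [hkk] at h2
      exact hq.zne h2.symm
    rcases Bs.classes (q b) huu hu1 with ⟨g, hg⟩ | ⟨d, hd', hc, hud⟩
    · exact absurd hg (hno g)
    · obtain ⟨g, hg⟩ := isConj_iff.1 hd'
      obtain ⟨c, rfl⟩ := hq.surj g
      set t := q (y 5) with ht
      have htt : t * t = 1 := by rw [ht, ← map_mul, h.sq 5 (by norm_num) (by norm_num), map_one]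
      have htM : t ∈ M₁ := by rw [hM]; exact ⟨y 5, h.five_mem, rfl⟩
      set u' : X := (q c)⁻¹ * q b * q c with hu'
      have hdt : (q c)⁻¹ * d * q c = t := by rw [← hg]; group
      have hu't : u' * t = t * u' := by
        calc u' * t = (q c)⁻¹ * (q b * d) * q c := by rw [← hdt, hu']; group
          _ = (q c)⁻¹ * (d * q b) * q c := by rw [hc]
          _ = t * u' := by rw [← hdt, hu']; group
      -- the transposition `d' = t u'`
      have hd'T : IsConj t (t * u') := by
        refine hud.trans (isConj_iff.2 ⟨(q c)⁻¹, ?_⟩)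
        rw [← hu't, inv_inv, ← hdt, hu']
        group
      have htd' : t * (t * u') = u' := by rw [← mul_assoc, htt, one_mul]
      have hd'M : t * u' ∉ M₁ := by
        intro h1
        have h2 := M₁.mul_mem htM h1
        rw [htd'] at h2
        exact hno (q c) h2
      refine ⟨d, hd', fun v hv hvu => ?_⟩
      have hx' : orderOf ((q c)⁻¹ * v * q c) = orderOf v := by
        have h3 : (q c)⁻¹ * v * q c = MulAut.conj (q c)⁻¹ v := by rw [MulAut.conj_apply, inv_inv]
        rw [h3, MulEquiv.orderOf_eq]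
      have h1 := Bs.comm_of_odd (t * u') ((q c)⁻¹ * v * q c) hd'T (by rw [mul_assoc, hu't]) hd'M
        (by rw [hx']; exact hv) (by
          rw [htd', hu']
          calc (q c)⁻¹ * v * q c * ((q c)⁻¹ * q b * q c) = (q c)⁻¹ * (v * q b) * q c := by group
            _ = (q c)⁻¹ * (q b * v) * q c := by rw [hvu]
            _ = _ := by group)
      rw [← hg]
      calc v * (q c * t * (q c)⁻¹) = q c * ((q c)⁻¹ * v * q c * t) * (q c)⁻¹ := by group
        _ = q c * (t * ((q c)⁻¹ * v * q c)) * (q c)⁻¹ := by rw [h1]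
        _ = _ := by group

end

/-- a `p`-subgroup of the image lifts -/
theorem exists_subgroup {B X : Type*} [Group B] [Group X] [Finite B] {q : B →* X} {τ : B} (hq : Ext q τ) {p n : ℕ}
    (hp : p.Prime) (P : Subgroup X) (hP : Nat.card ↥P = p ^ n) :
    ∃ W : Subgroup B, Nat.card ↥W = p ^ n ∧ ∀ x ∈ W, q x ∈ P := by
  have : Fact p.Prime := ⟨hp⟩
  have h1 : Nat.card ↥P ∣ Nat.card ↥(P.comap q) := by
    let f : ↥(P.comap q) →* ↥P :=
      { toFun := fun x => ⟨q (x : B), x.2⟩
        map_one' := Subtype.ext (map_one q)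
        map_mul' := fun a b => Subtype.ext (map_mul q (a : B) (b : B)) }
    refine card_dvd_of_surjective f fun v => ?_
    obtain ⟨x, hx⟩ := hq.surj v
    exact ⟨⟨x, by show q x ∈ P; rw [hx]; exact v.2⟩, Subtype.ext hx⟩
  rw [hP] at h1
  obtain ⟨W, hW⟩ := Sylow.exists_subgroup_card_pow_prime p h1
  refine ⟨W.map (P.comap q).subtype, ?_, ?_⟩
  · rw [card_map_of_injective (Subgroup.subtype_injective _), hW]
  · rintro _ ⟨x, -, rfl⟩
    exact x.2

/-- **Prime powers dividing the orders of the centralizers of the involutions of the Baby Monster.** -/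
theorem dvd_pow {p n : ℕ} (hp : p.Prime) (hp2 : p ≠ 2) {u : Spor.BabyMonster} (hu : orderOf u = 2)
    (hd : p ^ n ∣ Nat.card (centralizer ({u} : Set Spor.BabyMonster))) :
    p ^ n ∣ 306129918735099415756800 ∨ p ^ n ∣ 2 ^ 25 * 4157776806543360000 := by
  have : Fact p.Prime := ⟨hp⟩
  have hodd : Odd p := hp.odd_of_ne_two hp2
  refine CTwoTab.BInst.elim ?_
  intro K iF iT hK hF i1 i2 i3 i4 q y h π f₁ f₂ f₃ f₄ M₁ hq h10 DK Fc hz hcz hcd hL hc5 big hq5 hcard Bs hr
  obtain ⟨M₂, Bs2⟩ := BaseTwo.exists_base2 hq5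
  have A := CTwoTab.BInst.all
  have hfB := CTwoTab.BInst.finite_B
  have h1 := cases_inv (hF := hF) (Cfsg.Agent.TwoESix.LeviG.rootFacts hK hF) (Cfsg.Agent.BabyU.KeyInst.extra hF)
    (Cfsg.Agent.TwoESix.RootsInst.roots K hF) hq h10 DK Fc hcz hcd hc5 big Bs2 hu
  obtain ⟨P, hP⟩ := Sylow.exists_subgroup_card_pow_prime p hd
  set P' : Subgroup Spor.BabyMonster := P.map (centralizer ({u} : Set Spor.BabyMonster)).subtype with hP'
  have hPc : Nat.card ↥P' = p ^ n := by rw [hP', card_map_of_injective (Subgroup.subtype_injective _), hP]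
  have hle : P' ≤ centralizer ({u} : Set Spor.BabyMonster) := map_subtype_le _
  have ho : ∀ {G : Type} [Group G] (W : Subgroup G), Nat.card ↥W = p ^ n → ∀ x ∈ W, Odd (orderOf x) := by
    intro G _ W hW x hx
    have h2 : orderOf x ∣ p ^ n := by
      rw [← hW, ← Subgroup.orderOf_mk x hx]
      exact orderOf_dvd_natCard _
    exact (hodd.pow).of_dvd_nat h2
  rcases h1 with ⟨t', ht', h1⟩ | ⟨w, hw, h1⟩
  · left
    rw [← hcard, ← Cfsg.Agent.Blocks.SylowIn.card_centralizer_of_isConj ht', ← hPc]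
    refine card_dvd_of_le fun v hv => ?_
    exact mem_centralizer_singleton_iff.2 (h1 v (ho P' hPc v hv) (mem_centralizer_singleton_iff.1 (hle hv)))
  · right
    obtain ⟨W, hW, hWP⟩ := exists_subgroup hq hp P' hPc
    rw [← MOf.card_cent_z A.hG A.hR A.hL A.hO A.hT, ← hz,
      ← Cfsg.Agent.Blocks.SylowIn.card_centralizer_of_isConj hw, ← hW,
      ← card_map_of_injective (Subgroup.subtype_injective (LitInst.BB MonsterX.KDone.K MonsterX.KLinkInst.x₀)) (K := W)]
    refine card_dvd_of_le ?_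
    rintro _ ⟨x, hx, rfl⟩
    rw [mem_centralizer_singleton_iff]
    exact congrArg Subtype.val (h1 x (ho W hW x hx) (mem_centralizer_singleton_iff.1 (hle (hWP x hx))))

/-- **The 3-part.** -/
theorem not_three {u : Spor.BabyMonster} (hu : orderOf u = 2) :
    ¬ 3 ^ 10 ∣ Nat.card (centralizer ({u} : Set Spor.BabyMonster)) := by
  intro h
  rcases dvd_pow Nat.prime_three (by norm_num) hu h with h1 | h1 <;> norm_num at h1

theorem not_three_B {L : Type*} [Group L] (h : Spor.IsoB L) {u : L} (hu : orderOf u = 2) :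
    ¬ 3 ^ 10 ∣ Nat.card (centralizer ({u} : Set L)) := by
  obtain ⟨e⟩ := h
  rw [Cfsg.Agent.LThreeB.card_centralizer_congr e]
  exact not_three (by rw [MulEquiv.orderOf_eq, hu])

end Cfsg.Agent.H844.Ore.BInv
end

-- part: H844/Ore/BType
section
set_option linter.all false

/-!
# Row B of Ore: the elements of order three of type 3A (helper844)

`FiType t₀ x` : `x` in the Monster, `C(x) / ⟨x⟩ ≅ Fi24'`, the image of `t₀` a product of two commuting transpositions.
-/

set_option autoImplicit false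

namespace Cfsg.Agent.H844.Ore

open Cfsg Cfsg.Agent Cfsg.Agent.LThreeMB

/-- `C(x) / ⟨x⟩ ≅ Fi24'`, the image of `t₀` is a product of two commuting transpositions. -/
def FiType {G : Type*} [Group G] (t₀ x : G) : Prop :=
  ∃ hx : t₀ * x = x * t₀, ∃ (f : XX x ≃* Spor.Fi24') (a b : Spor.Fi24) (_ : R08.TetFi24A.At a b),
    ((f (mk x hx) : Spor.Fi24') : Spor.Fi24) = a * b

open H630.Baby Subgroup in
/-- `s` in the Baby Monster is the image, for some cover `C(t₀) / ⟨t₀⟩ ≅ B`, of `x` with `FiType t₀ x`. -/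
def FiB {L : Type*} [Group L] (s : L) : Prop :=
  ∃ (t₀ : Mon) (_ : LThreeB.Row.TA t₀) (_ : Nat.card ↥(center ↥(centralizer ({t₀} : Set Mon))) = 2)
    (e : ↥(centralizer ({t₀} : Set Mon)) ⧸ center ↥(centralizer ({t₀} : Set Mon)) ≃* L)
    (x : ↥(centralizer ({t₀} : Set Mon))), orderOf x = 3 ∧ e (QuotientGroup.mk x) = s ∧ FiType t₀ (x : Mon)

open H630.Baby Subgroup in
/-- `u` in the Baby Monster is an involution of type 2B: for some cover `C(t₀) / ⟨t₀⟩ ≅ B` it is the image of an involution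
`w` conjugate to `z` in the Monster with `w t₀` of class 2A. -/
def TwoB {L : Type*} [Group L] (u : L) : Prop :=
  ∃ (t₀ : Mon) (_ : LThreeB.Row.TA t₀) (_ : Nat.card ↥(center ↥(centralizer ({t₀} : Set Mon))) = 2)
    (e : ↥(centralizer ({t₀} : Set Mon)) ⧸ center ↥(centralizer ({t₀} : Set Mon)) ≃* L)
    (w : ↥(centralizer ({t₀} : Set Mon))), (w : Mon) * w = 1 ∧ IsConj MonsterX.KDone.K.z (w : Mon) ∧
      LThreeB.Row.TA ((w : Mon) * t₀) ∧ e (QuotientGroup.mk w) = u

end Cfsg.Agent.H844.Ore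
end

-- part: H829/Pw/BSeven
section
set_option linter.all false
open scoped Cfsg.Agent.FastGrp

/-!
# The centralizers of the elements of order 7 of the Baby Monster (S2454, helper829)

`card_cent_seven` : `|C_B(y)| ≤ 564480 = 7 * 161280 / 2` for `y` of order 7: a lift of `y` to the Monster has the
centralizer `7 × He`, and the centralizers of the involutions of `He` have order at most `161280`.
-/

set_option autoImplicit false
set_option maxRecDepth 100000

namespace Cfsg.Agent.H829.Pw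

open Cfsg Cfsg.Agent.BpTab Cfsg.Agent.CpAutBFive Cfsg.Agent.MFive
open Cfsg.Agent.LThreeMB (fr Zx XX KChart.Cent KChart.pi KChart.chart)
open Cfsg.Agent.MonsterU Cfsg.Agent.MonsterU.Ch
open Cfsg.Agent.MonsterX Cfsg.Agent.MonsterX.MainBasic Cfsg.Agent.MonsterN Cfsg.Agent.MonsterP
open Cfsg.Agent.MonsterU.Lam2 (L2)
open Cfsg.Spor (Co1)
open Subgroup (centralizer zpowers mem_centralizer_singleton_iff center)

universe u

/-- conjugate elements have centralizers of the same order -/
theorem card_cent_of_isConj {G : Type*} [Group G] {s t : G} (h : IsConj s t) :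
    Nat.card ↥(centralizer ({t} : Set G)) = Nat.card ↥(centralizer ({s} : Set G)) := by
  obtain ⟨c, rfl⟩ := isConj_iff.1 h
  have h1 := CTwoTab.map_centralizer_singleton (MulAut.conj c) s
  rw [show c * s * c⁻¹ = MulAut.conj c s from rfl, ← h1]
  exact Subgroup.card_map_of_injective (MulAut.conj c).injective

/-- the centralizers of the involutions of `He` -/
theorem he_inv {H : Type*} [Group H] (h : Spor.IsoHe H) {τ : H} (hτ : orderOf τ = 2) :
    Nat.card ↥(centralizer ({τ} : Set H)) ≤ 161280 := by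
  obtain ⟨e⟩ := h
  rw [LThreeB.card_centralizer_congr e τ]
  have h2 : orderOf (e τ) = 2 := by rw [MulEquiv.orderOf_eq, hτ]
  have h3 : e τ * e τ = 1 := by rw [← pow_two, ← h2, pow_orderOf_eq_one]
  have h4 : e τ ≠ 1 := by
    intro h5
    rw [h5, orderOf_one] at h2
    norm_num at h2
  rcases CTwoTab.He.classes h3 h4 with hc | hc
  · have h5 : Nat.card ↥(Subgroup.centralizer ({CTwoTab.He.z} : Set Spor.He)) = 21504 := KFacts.He.Cent.card_cent
    rw [card_cent_of_isConj hc, h5]
    norm_num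
  · rw [card_cent_of_isConj hc]
    exact Nat.le_of_dvd (by norm_num) H997.OutHe.card_cent_a

/-- an element of order 7 of the Monster which commutes with a 2A-involution -/
theorem exists_he {v y : ↥InstData.M.G} (hv : IsConj BpSpor.BCover.t v) (hy : orderOf y = 7) (hyv : y * v = v * y) :
    ∃ g : ↥InstData.M.G, Spor.IsoHe (XX (g⁻¹ * y * g)) := by
  have := MFive.Row.finite_model
  have h := KChart.chart KDone.lft MFive.Row.hc
  have hp : Nat.Prime 7 := by norm_num
  have ht := CpAutBFive.RowB.orderOf_t hv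
  have hnt := CpAutBFive.RowB.not_conj hv
  have he : 2 ∣ Nat.card ↥(centralizer ({y} : Set ↥InstData.M.G)) := by
    have h1 : orderOf (⟨v, mem_centralizer_singleton_iff.2 hyv.symm⟩ : ↥(centralizer ({y} : Set ↥InstData.M.G))) = 2 := by
      rw [← Subgroup.orderOf_coe]
      exact ht
    rw [← h1]
    exact orderOf_dvd_natCard _
  obtain ⟨g, hg⟩ := MSevenT.hex7 y hy he
  have h1 : (g⁻¹ * y * g) * KDone.K.z = KDone.K.z * (g⁻¹ * y * g) := by
    calc (g⁻¹ * y * g) * KDone.K.z = g⁻¹ * (y * (g * KDone.K.z * g⁻¹)) * g := by group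
      _ = g⁻¹ * ((g * KDone.K.z * g⁻¹) * y) * g := by rw [hg]
      _ = KDone.K.z * (g⁻¹ * y * g) := by group
  obtain ⟨x', hx'⟩ : ∃ x' : centralizer ({KDone.K.z} : Set ↥InstData.M.G), (x' : ↥InstData.M.G) = g⁻¹ * y * g :=
    ⟨⟨g⁻¹ * y * g, mem_centralizer_singleton_iff.2 h1⟩, rfl⟩
  have h7 : orderOf (g⁻¹ * y * g) = 7 := by
    have h6 := MulEquiv.orderOf_eq (MulAut.conj g⁻¹) y
    rw [MulAut.conj_apply, inv_inv] at h6
    rw [h6, hy]
  have hx7 : orderOf x' = 7 := by rw [← Subgroup.orderOf_coe, hx', h7]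
  have h4 : (x' : ↥InstData.M.G) * (g⁻¹ * v * g) = (g⁻¹ * v * g) * x' := by
    rw [hx']
    calc g⁻¹ * y * g * (g⁻¹ * v * g) = g⁻¹ * (y * v) * g := by group
      _ = g⁻¹ * (v * y) * g := by rw [hyv]
      _ = _ := by group
  have h5 : orderOf (g⁻¹ * v * g) = 2 := by
    have h6 := MulEquiv.orderOf_eq (MulAut.conj g⁻¹) v
    rw [MulAut.conj_apply, inv_inv] at h6
    rw [h6, ht]
  refine ⟨g, ?_⟩
  rw [← hx']
  rcases CpAutMSeven.Ranks.hranks _ (MFive.orderOf_pi h hp (by decide) hx7) with h8 | h8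
  · obtain ⟨d, hd⟩ := BpMon.BSeven.conj_z hx7 h8 h5 h4
    exfalso
    refine hnt (d⁻¹ * g⁻¹) ?_
    calc d⁻¹ * g⁻¹ * v * (d⁻¹ * g⁻¹)⁻¹ = d⁻¹ * (g⁻¹ * v * g) * d := by group
      _ = KDone.K.z := by rw [← hd]; group
  · exact CpAutMSeven.ZeroComps.heSix x' hx7 h8

/-- **The centralizers of the elements of order 7 of the Baby Monster.** -/
theorem card_cent_seven {L : Type u} [Group L] [Finite L] (h : Spor.IsoB L) {y : L} (hy : orderOf y = 7) :
    Nat.card ↥(centralizer ({y} : Set L)) ≤ 564480 := by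
  have hfin : Finite H630.Baby.Mon := MThirteen.Row.finite
  obtain ⟨t, x, ht, hx, hxt, hc⟩ := H630.Baby.exists_lift_card h (by norm_num) (by norm_num) hy
  obtain ⟨g, hg⟩ := exists_he (v := t) ht hx hxt
  have hx' : orderOf (g⁻¹ * x * g) = 7 := by
    have h6 := MulEquiv.orderOf_eq (MulAut.conj g⁻¹) x
    rw [MulAut.conj_apply, inv_inv] at h6
    rw [h6, hx]
  have ht' : orderOf (g⁻¹ * t * g) = 2 := by
    have h6 := MulEquiv.orderOf_eq (MulAut.conj g⁻¹) t
    rw [MulAut.conj_apply, inv_inv] at h6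
    rw [h6]
    exact MThirteen.Row.ta_order ht
  have hxt' : g⁻¹ * x * g * (g⁻¹ * t * g) = g⁻¹ * t * g * (g⁻¹ * x * g) := by
    calc g⁻¹ * x * g * (g⁻¹ * t * g) = g⁻¹ * (x * t) * g := by group
      _ = g⁻¹ * (t * x) * g := by rw [hxt]
      _ = _ := by group
  obtain ⟨τ, hτ, hd⟩ := H979.BAdj.card_XT_dvd (r := 7) (by norm_num) (by norm_num) hx' ht' hxt'
  have h1 : Nat.card ↥(LThreeB.XT x t) = Nat.card ↥(LThreeB.XT (g⁻¹ * x * g) (g⁻¹ * t * g)) := by
    have h2 := Nat.card_congr (LThreeB.conjXT g⁻¹ x t).toEquiv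
    rw [inv_inv] at h2
    exact h2
  have h3 := he_inv hg hτ
  have h4 := Nat.le_of_dvd (Nat.mul_pos (by norm_num) Nat.card_pos) hd
  rw [← h1, hc] at h4
  omega

end Cfsg.Agent.H829.Pw
end
end
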