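import Cfsg.Agent.H570.Ore.RowB_m3
import Cfsg.Agent.H844.Ore.BPrimes
import Cfsg.Agent.H705.OreB.Five
import Cfsg.Agent.H878.EPX.FiK
import Cfsg.Agent.H633.Ore.Co2Fix_m3
import Cfsg.Agent.H494.F22.Lin_m3
import Cfsg.Agent.H903.Ore.Baby
import Cfsg.Agent.H633.Ore.Co2Ore
import Cfsg.Agent.H822.Ore.Fi23Ore
import Cfsg.Agent.S3331
import Cfsg.Agent.H633.Ore.LinFast
import Cfsg.Agent.Prune
set_option linter.all false
open scoped Cfsg.Agent.FastGrp

-- part: H844/Ore/BRow
section
/-!
# Row B of Ore (helper844, with helper58, 123, 480, 570, 612, 705, 903)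

`ore_B_of` : every element of the Baby Monster is a commutator, given the theorem on self-centralizing subgroups of order
three (S3331), `OreF23Two` (`Co2`) and the row `Fi23`.
-/

set_option autoImplicit false

universe u

namespace Cfsg.Agent.H844.Ore.BRow

open Cfsg Cfsg.Agent Cfsg.Agent.H777.Ore
open Cfsg.Agent.H715.Mon.Grp (SThree)
open Subgroup (centralizer)

/-- **`|C(y)| ≤ 1716000000` for `y` of prime order at least five** -/
theorem prime_le (h3 : SThree.{0}) {L : Type u} [Group L] (h : Spor.IsoB L) {y : L} (hp : (orderOf y).Prime)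
    (h5 : 5 ≤ orderOf y) : Nat.card ↥(centralizer ({y} : Set L)) ≤ 1716000000 := by
  have hfin : Finite L := Nat.finite_of_card_ne_zero (by rw [NotCT.Orders.b h]; norm_num)
  by_cases e5 : orderOf y = 5
  · exact (H705.OreB.Five.five h e5).trans (by norm_num)
  have h7 : 7 ≤ orderOf y := by
    by_contra hcon
    have h6 : orderOf y = 6 := by omega
    rw [h6] at hp
    norm_num at hp
  exact BPrimes.prime_le h3 h hp h7

/-- **Row B** -/
theorem ore_B_of (h3 : SThree.{0}) (hO : H903.Ore.Baby.OreF23Two) (hF : AllC Spor.Fi23) {S : Type u} [Group S]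
    (h : Spor.IsoB S) : AllC S :=
  BFrame.frame h (H570.Ore.RowB.t1_b h3 h) (fun _ hp h5 => (prime_le h3 h hp h5).trans (by norm_num)) hO hF
    (H123.Cls.FiDat.ore_fi22 ⟨MulEquiv.refl _⟩)

end Cfsg.Agent.H844.Ore.BRow
end

-- part: H612/Ore/CoTwoF
section
/-!
# Every `l ≠ 1` in `Co2` is `[a, b]` with an element of order 23 in `⟨a, b⟩` (helper612)

The kernel check of the table `CoTwo23.T` on the model `H633.Ore.Co2.M`; the class cover is the hypothesis `hc`.
-/

set_option autoImplicit false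
set_option maxRecDepth 100000

namespace Cfsg.Agent.H612.Ore.CoTwoF

open Cfsg Cfsg.Agent.H633.Ore

theorem chk : CoTwo23.chkAll Co2.GG (idL 22) CoTwo23.T = true := by
  delta CoTwo23.chkAll CoTwo23.chkI CoTwo23.pow23
  rewrite [show @CoTwo23.wF Bool = _ from LinFast.w_eq]
  simp only [LinFast.mul_eq]
  decide +kernel

theorem exists_cd : ∃ y : H843.IMC.Co2B.Y, Co2.M.cd y = 1 := by
  obtain ⟨y, hy⟩ := Co2.M.idx_surj 0 (by show 0 < 2300; norm_num)
  refine ⟨y, ?_⟩
  rw [← Co2.M.ent_idx, hy]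
  exact Co2.ent_zero

/-- **`OreF23` from the class cover** -/
theorem oreF23_of_cover
    (hc : ∀ g : Spor.Co2, ∃ w ∈ H68.Ore.Co2Words.L.map H68.Ore.Words.cw,
      IsConj (H68.Ore.Words.wd Co2.tt w) g ∨ IsConj (H68.Ore.Words.wd Co2.tt w)⁻¹ g) : H903.Ore.Baby.OreF23 :=
  fun l hl => CoTwo23.oreF23_of Co2.M Co2.rpG Co2.tt_sq exists_cd chk hc l hl

end Cfsg.Agent.H612.Ore.CoTwoF
end

-- part: H844/Ore/BMain
section
/-!
# The row of the Baby Monster of the Ore conjecture (S2443)
-/

set_option autoImplicit false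

universe u

namespace Cfsg.Agent.H844.Ore.BMain

open Cfsg Cfsg.Agent Cfsg.Agent.H777.Ore

theorem sThree : H715.Mon.Grp.SThree.{0} := fun _ _ _ X hX hC => S3331.result X hX hC

/-- **every `l ≠ 1` in `Co₂` is `[a, b]` with an element of order 23 in `⟨a, b⟩`** -/
theorem oreF23 : H903.Ore.Baby.OreF23 :=
  H612.Ore.CoTwoF.oreF23_of_cover fun g => by
    have h := H633.Ore.Co2.cover g
    rw [H633.Ore.Co2.reps_cw] at h
    exact h

/-- **Every element of the Baby Monster is a commutator.** -/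
theorem ore_B {S : Type u} [Group S] (h : Spor.IsoB S) : AllC S :=
  BRow.ore_B_of sThree oreF23.two (H822.Ore.Fi23Ore.ore_fi23 ⟨MulEquiv.refl _⟩) h

end Cfsg.Agent.H844.Ore.BMain
end
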